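import Cfsg.Agent.E7P.En1.Act

/-!
# S5932, END1: the finite check (helper48)

The `128` label vectors with entries `0, 2`, and the numerical conditions on the multiplicities of the levels.
-/

set_option autoImplicit false
set_option maxRecDepth 100000

namespace Cfsg.Agent.E7P.En1

open Cfsg Cfsg.Lie Matrix Module
open Cfsg.Agent.ChevalleyStructure.RootVec
open Cfsg.Agent.H943.E7V.Block (D1 rho)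
open Cfsg.Agent.R2.T1 Cfsg.Agent.E7P.Kf
open Cfsg.Agent.R2.PX (mmn W56)

/-- twice the coordinates of the roots -/
def RT : List (List ℤ) := [[-4, -4, -6, -8, -6, -4, -2], [-2, -4, -6, -8, -6, -4, -2], [-2, -4, -4, -8, -6, -4, -2], [-2, -4, -4, -6, -6, -4,
  -2], [-2, -4, -4, -6, -4, -4, -2], [-2, -4, -4, -6, -4, -2, -2], [-2, -4, -4, -6, -4, -2, 0], [-2, -2, -4, -6, -6, -4,
  -2], [-2, -2, -4, -6, -4, -4, -2], [-2, -2, -4, -6, -4, -2, -2], [-2, -2, -4, -6, -4, -2, 0], [-2, -2, -4, -4, -4, -4,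
  -2], [-2, -2, -4, -4, -4, -2, -2], [-2, -2, -4, -4, -4, -2, 0], [-2, -2, -4, -4, -2, -2, -2], [-2, -2, -4, -4, -2, -2,
  0], [-2, -2, -4, -4, -2, 0, 0], [-2, -2, -2, -4, -4, -4, -2], [-2, -2, -2, -4, -4, -2, -2], [-2, -2, -2, -4, -4, -2,
  0], [-2, -2, -2, -4, -2, -2, -2], [-2, -2, -2, -4, -2, -2, 0], [-2, -2, -2, -4, -2, 0, 0], [-2, -2, -2, -2, -2, -2,
  -2], [-2, -2, -2, -2, -2, -2, 0], [-2, -2, -2, -2, -2, 0, 0], [-2, -2, -2, -2, 0, 0, 0], [-2, 0, -2, -2, -2, -2, -2],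
  [-2, 0, -2, -2, -2, -2, 0], [-2, 0, -2, -2, -2, 0, 0], [-2, 0, -2, -2, 0, 0, 0], [-2, 0, -2, 0, 0, 0, 0], [-2, 0, 0,
  0, 0, 0, 0], [0, -2, -2, -4, -4, -4, -2], [0, -2, -2, -4, -4, -2, -2], [0, -2, -2, -4, -4, -2, 0], [0, -2, -2, -4, -2,
  -2, -2], [0, -2, -2, -4, -2, -2, 0], [0, -2, -2, -4, -2, 0, 0], [0, -2, -2, -2, -2, -2, -2], [0, -2, -2, -2, -2, -2,
  0], [0, -2, -2, -2, -2, 0, 0], [0, -2, -2, -2, 0, 0, 0], [0, -2, 0, -2, -2, -2, -2], [0, -2, 0, -2, -2, -2, 0], [0,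
  -2, 0, -2, -2, 0, 0], [0, -2, 0, -2, 0, 0, 0], [0, -2, 0, 0, 0, 0, 0], [0, 0, -2, -2, -2, -2, -2], [0, 0, -2, -2, -2,
  -2, 0], [0, 0, -2, -2, -2, 0, 0], [0, 0, -2, -2, 0, 0, 0], [0, 0, -2, 0, 0, 0, 0], [0, 0, 0, -2, -2, -2, -2], [0, 0,
  0, -2, -2, -2, 0], [0, 0, 0, -2, -2, 0, 0], [0, 0, 0, -2, 0, 0, 0], [0, 0, 0, 0, -2, -2, -2], [0, 0, 0, 0, -2, -2, 0],
  [0, 0, 0, 0, -2, 0, 0], [0, 0, 0, 0, 0, -2, -2], [0, 0, 0, 0, 0, -2, 0], [0, 0, 0, 0, 0, 0, -2], [0, 0, 0, 0, 0, 0,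
  2], [0, 0, 0, 0, 0, 2, 0], [0, 0, 0, 0, 0, 2, 2], [0, 0, 0, 0, 2, 0, 0], [0, 0, 0, 0, 2, 2, 0], [0, 0, 0, 0, 2, 2, 2],
  [0, 0, 0, 2, 0, 0, 0], [0, 0, 0, 2, 2, 0, 0], [0, 0, 0, 2, 2, 2, 0], [0, 0, 0, 2, 2, 2, 2], [0, 0, 2, 0, 0, 0, 0], [0,
  0, 2, 2, 0, 0, 0], [0, 0, 2, 2, 2, 0, 0], [0, 0, 2, 2, 2, 2, 0], [0, 0, 2, 2, 2, 2, 2], [0, 2, 0, 0, 0, 0, 0], [0, 2,
  0, 2, 0, 0, 0], [0, 2, 0, 2, 2, 0, 0], [0, 2, 0, 2, 2, 2, 0], [0, 2, 0, 2, 2, 2, 2], [0, 2, 2, 2, 0, 0, 0], [0, 2, 2,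
  2, 2, 0, 0], [0, 2, 2, 2, 2, 2, 0], [0, 2, 2, 2, 2, 2, 2], [0, 2, 2, 4, 2, 0, 0], [0, 2, 2, 4, 2, 2, 0], [0, 2, 2, 4,
  2, 2, 2], [0, 2, 2, 4, 4, 2, 0], [0, 2, 2, 4, 4, 2, 2], [0, 2, 2, 4, 4, 4, 2], [2, 0, 0, 0, 0, 0, 0], [2, 0, 2, 0, 0,
  0, 0], [2, 0, 2, 2, 0, 0, 0], [2, 0, 2, 2, 2, 0, 0], [2, 0, 2, 2, 2, 2, 0], [2, 0, 2, 2, 2, 2, 2], [2, 2, 2, 2, 0, 0,
  0], [2, 2, 2, 2, 2, 0, 0], [2, 2, 2, 2, 2, 2, 0], [2, 2, 2, 2, 2, 2, 2], [2, 2, 2, 4, 2, 0, 0], [2, 2, 2, 4, 2, 2, 0],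
  [2, 2, 2, 4, 2, 2, 2], [2, 2, 2, 4, 4, 2, 0], [2, 2, 2, 4, 4, 2, 2], [2, 2, 2, 4, 4, 4, 2], [2, 2, 4, 4, 2, 0, 0], [2,
  2, 4, 4, 2, 2, 0], [2, 2, 4, 4, 2, 2, 2], [2, 2, 4, 4, 4, 2, 0], [2, 2, 4, 4, 4, 2, 2], [2, 2, 4, 4, 4, 4, 2], [2, 2,
  4, 6, 4, 2, 0], [2, 2, 4, 6, 4, 2, 2], [2, 2, 4, 6, 4, 4, 2], [2, 2, 4, 6, 6, 4, 2], [2, 4, 4, 6, 4, 2, 0], [2, 4, 4,
  6, 4, 2, 2], [2, 4, 4, 6, 4, 4, 2], [2, 4, 4, 6, 6, 4, 2], [2, 4, 4, 8, 6, 4, 2], [2, 4, 6, 8, 6, 4, 2], [4, 4, 6, 8,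
  6, 4, 2]]

/-- twice the coordinates of the weights -/
def MT : List (List ℤ) := [[-2, -3, -4, -6, -5, -4, -3], [-2, -3, -4, -6, -5, -4, -1], [-2, -3, -4, -6, -5, -2, -1], [-2, -3, -4, -6, -3, -2,
  -1], [-2, -3, -4, -4, -3, -2, -1], [-2, -3, -2, -4, -3, -2, -1], [-2, -1, -4, -4, -3, -2, -1], [-2, -1, -2, -4, -3,
  -2, -1], [-2, -1, -2, -2, -3, -2, -1], [-2, -1, -2, -2, -1, -2, -1], [-2, -1, -2, -2, -1, 0, -1], [-2, -1, -2, -2, -1,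
  0, 1], [0, -3, -2, -4, -3, -2, -1], [0, -1, -2, -4, -3, -2, -1], [0, -1, -2, -2, -3, -2, -1], [0, -1, -2, -2, -1, -2,
  -1], [0, -1, -2, -2, -1, 0, -1], [0, -1, -2, -2, -1, 0, 1], [0, -1, 0, -2, -3, -2, -1], [0, -1, 0, -2, -1, -2, -1],
  [0, -1, 0, -2, -1, 0, -1], [0, -1, 0, -2, -1, 0, 1], [0, -1, 0, 0, -1, -2, -1], [0, -1, 0, 0, -1, 0, -1], [0, -1, 0,
  0, -1, 0, 1], [0, -1, 0, 0, 1, 0, -1], [0, -1, 0, 0, 1, 0, 1], [0, -1, 0, 0, 1, 2, 1], [0, 1, 0, 0, -1, -2, -1], [0,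
  1, 0, 0, -1, 0, -1], [0, 1, 0, 0, -1, 0, 1], [0, 1, 0, 0, 1, 0, -1], [0, 1, 0, 0, 1, 0, 1], [0, 1, 0, 0, 1, 2, 1], [0,
  1, 0, 2, 1, 0, -1], [0, 1, 0, 2, 1, 0, 1], [0, 1, 0, 2, 1, 2, 1], [0, 1, 0, 2, 3, 2, 1], [0, 1, 2, 2, 1, 0, -1], [0,
  1, 2, 2, 1, 0, 1], [0, 1, 2, 2, 1, 2, 1], [0, 1, 2, 2, 3, 2, 1], [0, 1, 2, 4, 3, 2, 1], [0, 3, 2, 4, 3, 2, 1], [2, 1,
  2, 2, 1, 0, -1], [2, 1, 2, 2, 1, 0, 1], [2, 1, 2, 2, 1, 2, 1], [2, 1, 2, 2, 3, 2, 1], [2, 1, 2, 4, 3, 2, 1], [2, 1, 4,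
  4, 3, 2, 1], [2, 3, 2, 4, 3, 2, 1], [2, 3, 4, 4, 3, 2, 1], [2, 3, 4, 6, 3, 2, 1], [2, 3, 4, 6, 5, 2, 1], [2, 3, 4, 6,
  5, 4, 1], [2, 3, 4, 6, 5, 4, 3]]

theorem RT_eq : RT = (List.range 126).map fun r => (List.range 7).map fun i => 2 * rt chevE7 r i := by decide +kernel

theorem MT_eq : MT = W56.map fun s => (List.range 7).map fun i => mmn s i := by decide +kernel

/-- the scalar product -/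
def dot (a b : List ℤ) : ℤ := (List.zipWith (· * ·) a b).sum

/-- the levels on the Lie algebra -/
def LG (b : List ℤ) : List ℤ := [0, 0, 0, 0, 0, 0, 0] ++ RT.map fun r => dot r b

/-- the levels on the 56-dimensional module -/
def LV (b : List ℤ) : List ℤ := MT.map fun r => dot r b

/-- the multiplicity -/
def cnt (L : List ℤ) (d : ℤ) : ℕ := (L.map fun x => if x = d then 1 else 0).sum

/-- the Casimir inequality -/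
abbrev Cas (L : List ℤ) (d : ℤ) : Prop := 2 * cnt L d ≤ cnt L (d + 2) + cnt L (d - 2)

/-- the inequality for `d ≠ 0, 1` -/
abbrev S2 (L : List ℤ) (d : ℤ) : Prop := cnt L d ≤ cnt L (d + 2) + cnt L (d - 4)

/-- the inequality for the module generated by the highest level -/
abbrev A5 (p : ℤ) (G L : List ℤ) (T : ℤ) : Prop :=
  (∀ x ∈ L, x ≤ T) → cnt L (-T) = 1 → (∀ x ∈ G, x < 2 * p + 2) → cnt G 2 ≤ cnt G 4 + cnt L (-T + 2)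

/-- the numerical conditions -/
abbrev Num (p : ℤ) (G V : List ℤ) : Prop :=
  (∀ j ∈ ([0, 1, 2, 3, 4, 5, 6] : List ℤ),
    ((5 ≤ p ∨ (0 < j ∧ ∀ x ∈ G, x < 3 * (p * j) - 2) ∨ (j = 0 ∧ ∀ x ∈ G, x < 16)) → Cas G (p * j)) ∧ Cas V (p * j)) ∧
  (p = 3 → S2 G (-10) ∧ S2 V (-13) ∧ S2 V (-19)) ∧
  (5 ≤ p → A5 p G V 9 ∧ A5 p G V 11 ∧ A5 p G V 15 ∧ A5 p G G 22)

set_option synthInstance.maxSize 100000 in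
set_option synthInstance.maxHeartbeats 400000 in
theorem chk : ∀ b0 ∈ ([0, 1] : List ℤ), ∀ b1 ∈ ([0, 1] : List ℤ), ∀ b2 ∈ ([0, 1] : List ℤ), ∀ b3 ∈ ([0, 1] : List ℤ),
    ∀ b4 ∈ ([0, 1] : List ℤ), ∀ b5 ∈ ([0, 1] : List ℤ), ∀ b6 ∈ ([0, 1] : List ℤ), ∀ p ∈ ([3, 5, 7, 11, 13] : List ℤ),
    ¬ Num p (LG [b0, b1, b2, b3, b4, b5, b6]) (LV [b0, b1, b2, b3, b4, b5, b6]) := by decide +kernel

end Cfsg.Agent.E7P.En1
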