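import Cfsg.Agent.E7P.En1.Grp
import Cfsg.Agent.E7P.En1.Chk
import Cfsg.Agent.E7P.Rsl.Std
import Cfsg.Agent.E7P.Nt.All

/-!
# S5932, END1: an algebraic overgroup `A₁` forces `p ≥ 17` (helper48)
-/

set_option autoImplicit false
set_option maxRecDepth 100000
set_option linter.unusedSectionVars false

namespace Cfsg.Agent.E7P

open Cfsg Cfsg.Lie Matrix Module
open Cfsg.Agent.ChevalleyStructure.RootVec
open Cfsg.Agent.H943.E7V.Block (D1 rho)
open Cfsg.Agent.R2.T1 Cfsg.Agent.E7P.Kf Cfsg.Agent.E7P.Br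
open Cfsg.Agent.R2.PX (del mmn W56)
open Cfsg.Agent.H943.SL2Rel (u w h)

universe u v

namespace En1

variable {k : Type u} [Field k]

/-- the list of the labels -/
def bl (b : Fin 7 → ℤ) : List ℤ := [b 0, b 1, b 2, b 3, b 4, b 5, b 6]

theorem dot_bl (f : ℕ → ℤ) (b : Fin 7 → ℤ) : dot ((List.range 7).map f) (bl b) = ∑ i : Fin 7, f i * b i := by
  simp [dot, bl, List.range_succ, Fin.sum_univ_seven, add_assoc]

theorem cnt_map (L : List ℕ) (f : ℕ → ℤ) (d : ℤ) : cnt (L.map f) d = (L.map fun r => if f r = d then 1 else 0).sum := by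
  rw [cnt, List.map_map]
  rfl

theorem sum_Idx (f : chevE7.Idx → ℕ) (c : ℕ) (g : ℕ → ℕ) (h1 : ∀ i, f (Sum.inl i) = c)
    (h2 : ∀ r : Fin chevE7.nroots, f (Sum.inr r) = g r) : ∑ i, f i = 7 * c + ((List.range 126).map g).sum := by
  refine (Fintype.sum_sum_type f).trans (congrArg₂ (· + ·) ?_ ?_)
  · simp only [h1]
    rw [Finset.sum_const, Finset.card_univ, Fintype.card_fin, smul_eq_mul]
    rfl
  · simp only [h2]
    refine (Fin.sum_univ_eq_sum_range g 126).trans ?_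
    generalize 126 = n
    rfl

namespace One

variable [Infinite k] {O : One k} {b : Fin 7 → ℤ}

theorem LG_eq (b : Fin 7 → ℤ) : LG (bl b) = [0, 0, 0, 0, 0, 0, 0] ++
    (List.range 126).map fun r => ∑ i : Fin 7, 2 * rt chevE7 r i * b i := by
  rw [LG, RT_eq, List.map_map]
  exact congrArg _ (List.map_congr_left fun r _ => dot_bl _ b)

theorem LV_eq (b : Fin 7 → ℤ) : LV (bl b) = W56.map fun s => ∑ i : Fin 7, mmn s i * b i := by
  rw [LV, MT_eq, List.map_map]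
  exact List.map_congr_left fun r _ => dot_bl _ b

theorem lz_G (hb : ∀ i, O.lab i = 2 * b i) (r : Fin chevE7.nroots) :
    lz ac O.l (Sum.inr r) = ∑ i : Fin 7, 2 * rt chevE7 r i * b i := by
  rw [lz_inr]
  exact Finset.sum_congr rfl fun i _ => by rw [hb]; ring

theorem lz_V (hb : ∀ i, O.lab i = 2 * b i) (a : H943.E7V.Block.D1) : lz wc O.l a = ∑ i : Fin 7, mmn (nn a) i * b i := by
  refine mul_left_cancel₀ (two_ne_zero (α := ℤ)) ?_
  rw [lz_wt, Finset.mul_sum]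
  exact Finset.sum_congr rfl fun i _ => by rw [hb]; ring

theorem mem_G (hb : ∀ i, O.lab i = 2 * b i) (i : chevE7.Idx) : lz ac O.l i ∈ LG (bl b) := by
  rw [LG_eq]
  rcases i with i | r
  · rw [lz_inl]
    exact List.mem_append_left _ List.mem_cons_self
  · exact List.mem_append_right _ (List.mem_map.2 ⟨r, List.mem_range.2 r.2, (lz_G hb r).symm⟩)

theorem mem_V (hb : ∀ i, O.lab i = 2 * b i) (a : H943.E7V.Block.D1) : lz wc O.l a ∈ LV (bl b) := by
  rw [LV_eq]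
  exact List.mem_map.2 ⟨nn a, R2.PX.nn_mem a, (lz_V hb a).symm⟩

theorem cnt_V (hb : ∀ i, O.lab i = 2 * b i) (d : ℤ) : cnt (LV (bl b)) d = mm (lz wc O.l) d := by
  rw [LV_eq, cnt_map, ← R2.PX.sumD1, mm, Finset.card_filter]
  exact Finset.sum_congr rfl fun a _ => by rw [lz_V hb]

theorem cnt_G (hb : ∀ i, O.lab i = 2 * b i) (d : ℤ) : cnt (LG (bl b)) d = mm (lz ac O.l) d := by
  have h0 : cnt [0, 0, 0, 0, 0, 0, 0] d = 7 * if 0 = d then 1 else 0 := by
    simp only [cnt, List.map_cons, List.map_nil, List.sum_cons, List.sum_nil]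
    omega
  rw [LG_eq, cnt, List.map_append, List.sum_append, ← cnt, ← cnt, cnt_map, mm, Finset.card_filter, h0,
    sum_Idx _ (if 0 = d then 1 else 0) (fun r => if ∑ i : Fin 7, 2 * rt chevE7 r i * b i = d then 1 else 0)
    (fun i => by rw [lz_inl]) fun r => by rw [lz_G hb]]

variable {p : ℕ} [CharP k p]

/-- **the numerical conditions** -/
theorem Hyp.num (H : O.Hyp p) (hp : p.Prime) (h2 : (2 : k) ≠ 0) (h5 : p = 3 ∨ 5 ≤ p) (hb : ∀ i, O.lab i = 2 * b i) :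
    Num p (LG (bl b)) (LV (bl b)) := by
  have hV := O.Kz_of_ann h2 (lrep_V h2) (fun s y v => by
    rw [AV_apply, AV_apply, ← del_map]
    funext i
    exact (RingHom.map_mulVec s _ _ i).symm) H.annV
  have hc : ∀ j : ℤ, (((p : ℤ) * j : ℤ) : k) = 0 := fun j => by push_cast; rw [CharP.cast_eq_zero, zero_mul]
  have h3 : p = 3 → ∀ d : ℤ, d % 3 ≠ 0 → (d : k) ≠ 0 := fun e d hd h0 => by
    subst e
    have := (CharP.intCast_eq_zero_iff k 3 d).1 h0
    omega
  refine ⟨fun j _ => ⟨fun hj => ?_, ?_⟩, fun e => ?_, fun e => ?_⟩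
  · simp only [Cas, cnt_G hb]
    rcases h5 with e | e
    · have h6 : ∀ d : ℤ, 0 < d → (∀ x ∈ LG (bl b), x < 3 * d - 2) → Kz (lz ac O.l) (br k O.e) (br k O.f) d :=
        fun d hd hM => H.Kz_exp hp h2 hd fun i => hM _ (mem_G hb i)
      rcases hj with hj | ⟨hj, hM⟩ | ⟨rfl, hM⟩
      · omega
      · have h7 := h6 _ (by rw [e]; omega) hM
        exact (O.sl_L h2).cas (hc j) h7 (O.Kz_neg h2 (lrep_L h2) h7)
      · have h7 := O.Kz_zero h2 (lrep_L h2) H.nf fun d hd => by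
          by_cases h8 : 6 ≤ d
          · exact h6 d hd fun x hx => (hM x hx).trans_le (by omega)
          by_cases h9 : d = 3
          · intro x hx _ _
            funext i
            by_contra hi
            have h10 := hx i hi
            rcases i with i | r
            · rw [lz_inl] at h10
              omega
            · rw [lz_G hb] at h10
              simp only [mul_assoc, ← Finset.mul_sum] at h10
              omega
          · exact (O.sl_L h2).Kz_of_ne (h3 e d (by omega))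
        rw [mul_zero]
        exact (O.sl_L h2).cas Int.cast_zero h7 h7
    · have h7 := O.Kz_of_ann h2 (lrep_L h2) br_map (H.annL e)
      exact (O.sl_L h2).cas (hc j) (h7 _) (h7 _)
  · simp only [Cas, cnt_V hb]
    exact (O.sl_V h2).cas (hc j) (hV _) (hV _)
  · have e' : p = 3 := by exact_mod_cast e
    simp only [S2, cnt_G hb, cnt_V hb]
    exact ⟨(O.sl_L h2).simple2 h2 (h3 e' _ (by decide)) (h3 e' _ (by decide)),
      (O.sl_V h2).simple2 h2 (h3 e' _ (by decide)) (h3 e' _ (by decide)),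
      (O.sl_V h2).simple2 h2 (h3 e' _ (by decide)) (h3 e' _ (by decide))⟩
  · have e' : 5 ≤ p := by exact_mod_cast e
    have h6 : ∀ T, A5 p (LG (bl b)) (LV (bl b)) T := fun T hT h1 hM => by
      simp only [cnt_G hb, cnt_V hb] at h1 ⊢
      exact O.a5 hp h2 (lrep_V h2) H.annV (fun i => hT _ (mem_V hb i)) h1 fun i => hM _ (mem_G hb i)
    refine ⟨h6 _, h6 _, h6 _, fun hT h1 hM => ?_⟩
    simp only [cnt_G hb] at h1 ⊢
    exact O.a5 hp h2 (lrep_L h2) (H.annL e') (fun i => hT _ (mem_G hb i)) h1 fun i => hM _ (mem_G hb i)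

theorem Hyp.main (H : O.Hyp p) (hp : p.Prime) (h2 : (2 : k) ≠ 0) (h5 : p = 3 ∨ 5 ≤ p) : 17 ≤ p := by
  by_contra h17
  have hb : ∀ i, O.lab i = 2 * (O.lab i / 2) := fun i => by have := H.labels hp h2 i; omega
  have h1 : ∀ i, O.lab i / 2 ∈ ([0, 1] : List ℤ) := fun i => by
    rcases H.labels hp h2 i with e | e <;> rw [e] <;> decide
  refine chk _ (h1 0) _ (h1 1) _ (h1 2) _ (h1 3) _ (h1 4) _ (h1 5) _ (h1 6) p ?_ (H.num hp h2 h5 hb)
  have h3 : p < 17 := not_le.1 h17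
  have h4 : 3 ≤ p := by omega
  interval_cases p <;> first | decide | exact absurd hp (by decide)

/-- conjugation -/
noncomputable def mk' (Ξ : SpecialLinearGroup (Fin 2) k →* Gh k) (a : Gh k) (l : Fin 7 → ℤ)
    (tor : ∀ z, a * Ξ (h z) * a⁻¹ = Phi k (lam l z)) (e : chevE7.Idx → k)
    (D : ℕ → Matrix H943.E7V.Block.D1 H943.E7V.Block.D1 k) (N : ℕ)
    (poly : ∀ t, rho k (Ξ (u t)) = ∑ m ∈ Finset.range (N + 2), t ^ m • D m) (D1 : D 1 = del k e) (ne : e ≠ 0)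
    (h2 : (2 : k) ≠ 0) : One k where
  Ξ := (MulAut.conj a).toMonoidHom.comp Ξ
  l := l
  tor := tor
  e := adM k a *ᵥ e
  D m := rho k a * D m * rho k a⁻¹
  N := N
  poly t := by
    show rho k (a * Ξ (u t) * a⁻¹) = _
    rw [map_mul, map_mul, poly, Finset.mul_sum, Finset.sum_mul]
    exact Finset.sum_congr rfl fun m _ => by rw [mul_smul_comm, smul_mul_assoc]
  D1 := by rw [D1, del_adM h2]
  ne h0 := ne (by rw [← mulVec_inv (adM k) a e, h0, mulVec_zero])

end One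

end En1

namespace Sit

open En1

variable {p a b : ℕ} {F : Type u} {K : Type v} {k : Type u} [Field F] [Fintype F] [Field K] [Fintype K] [Field k]
  (S : Sit p a b F K k)

/-- the group `Ξ` is normalised by `M` and `σ`, and `O` is its conjugate -/
structure En1Ov (O : En1.One k) (Ξ : SpecialLinearGroup (Fin 2) k →* Gh k) (c : Gh k) : Prop where
  eq : ∀ x, O.Ξ x = c * Ξ x * c⁻¹
  frob : ∀ x, S.σ (Ξ x) = Ξ (SpecialLinearGroup.map S.s x)
  norm : ∀ m ∈ S.M, ∃ γ, ∀ x, m * Ξ x * m⁻¹ = Ξ (γ * x * γ⁻¹)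

theorem en1_surj : Function.Surjective S.s := fun t => by
  have := S.closed
  obtain ⟨z, hz⟩ := IsAlgClosed.exists_pow_nat_eq t (Nat.card_pos (α := F))
  exact ⟨z, (S.frob z).trans hz⟩

section
variable {S} {I : Type} [Fintype I] [DecidableEq I] {c : I → Fin 7 → ℤ} {R : Gh k →* Matrix I I k} [Infinite k]
  {O : En1.One k} {Ξ : SpecialLinearGroup (Fin 2) k →* Gh k} {g : Gh k} {X : Set (I → k)}

theorem En1Ov.stb (H : S.En1Ov O Ξ g) (hR : WRep c R) (hX : O.Can R X) :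
    S.Stb R (Submodule.span k {v | ∃ x ∈ X, v = R g⁻¹ *ᵥ x}) := by
  refine ⟨fun m hm v hv => ?_, fun v hv => ?_⟩
  · refine (show Submodule.span k _ ≤ (Submodule.span k {v | ∃ x ∈ X, v = R g⁻¹ *ᵥ x}).comap (toLin' (R m)) from
      Submodule.span_le.2 ?_) hv
    rintro _ ⟨x, hx, rfl⟩
    obtain ⟨γ, hγ⟩ := H.norm m hm
    have h1 : O.Sym (g * (Ξ γ)⁻¹ * m * g⁻¹) (RingHom.id k) := ⟨fun y => by
      have h3 : emb (RingHom.id k) (O.Ξ y) = O.Ξ y := rho_injective (by rw [wrep_V.frob]; rfl)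
      rw [h3, show SpecialLinearGroup.map (RingHom.id k) y = y from rfl, H.eq]
      calc _ = g * (Ξ γ)⁻¹ * (m * Ξ y * m⁻¹) * Ξ γ * g⁻¹ := by group
        _ = _ := by rw [hγ, map_mul, map_mul, map_inv]; group, fun t => ⟨t, rfl⟩⟩
    refine Submodule.subset_span ⟨_, hX.1 γ _ (hX.2 _ _ h1 x hx), ?_⟩
    show R m *ᵥ (R g⁻¹ *ᵥ x) = R g⁻¹ *ᵥ (R (O.Ξ γ) *ᵥ (R _ *ᵥ x))
    rw [← mulVec_mul, ← mulVec_mul, ← mulVec_mul, H.eq]
    congr 2
    group
  · refine Submodule.span_induction (p := fun v _ => S.sv v ∈ _) ?_ ?_ (fun x y _ _ hx hy => ?_) (fun t x _ hx => ?_) hv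
    · rintro _ ⟨x, hx, rfl⟩
      have h1 : O.Sym (g * (S.σ g)⁻¹) S.s := ⟨fun y => by
        rw [H.eq, H.eq, ← H.frob, map_mul, map_mul, map_inv]
        show g * (S.σ g)⁻¹ * (S.σ g * S.σ (Ξ y) * (S.σ g)⁻¹) * _ = _
        group, S.en1_surj⟩
      refine Submodule.subset_span ⟨_, hX.2 _ _ h1 x hx, ?_⟩
      rw [S.nt_sv_mulVec hR, act, ← mulVec_mul, inv_mul_cancel_left, map_inv]
      rfl
    · rw [show S.sv (0 : I → k) = 0 from funext fun _ => map_zero S.s]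
      exact zero_mem _
    · rw [show S.sv (x + y) = S.sv x + S.sv y from funext fun _ => map_add S.s _ _]
      exact add_mem hx hy
    · rw [show S.sv (t • x) = S.s t • S.sv x from funext fun _ => map_mul S.s _ _]
      exact Submodule.smul_mem _ _ hx

theorem en1_ne (h0 : ∃ x ∈ X, x ≠ 0) : Submodule.span k {v | ∃ x ∈ X, v = R g⁻¹ *ᵥ x} ≠ ⊥ := fun e => by
  obtain ⟨x, hx, h1⟩ := h0
  exact h1 (by rw [← mulVec_inv' R g x, Submodule.span_eq_bot.1 e _ ⟨x, hx, rfl⟩, mulVec_zero])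

theorem En1Ov.ann {A : (chevE7.Idx → k) →ₗ[k] (I → k) →ₗ[k] (I → k)} {B : (I → k) →ₗ[k] (I → k) →ₗ[k] k}
    (H : S.En1Ov O Ξ g) (hR : LRep c R A B) (hA : ∀ W, S.Stb R W → W ≠ ⊥ → ∀ z, (∀ v ∈ W, A z v = 0) → z = 0) :
    O.Ann R A := fun X hX h0 z hz => by
  rw [← mulVec_inv' (adM k) g z, hA _ (H.stb hR.wrep hX) (en1_ne h0) (adM k g⁻¹ *ᵥ z) fun v hv =>
    (show Submodule.span k _ ≤ LinearMap.ker (A (adM k g⁻¹ *ᵥ z)) from Submodule.span_le.2 ?_) hv, mulVec_zero]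
  rintro _ ⟨x, hx, rfl⟩
  show A _ _ = 0
  rw [← hR.equi, hz x hx, mulVec_zero]

end

/-- **END1** -/
theorem end1 (hp : p ≠ 2) (hs : S.SSC) (A : S.Alg) (h1 : A.n = 1) : 17 ≤ p := by
  obtain ⟨n, _, _, Ξ, _, g, l, tor, e, D, N, poly, D1, ne, π, _, frob, τ, res, norm⟩ := A
  obtain rfl : n = 1 := h1
  have := S.closed
  have := S.chark
  have h2 := S.nt_two hp
  obtain ⟨v, hv⟩ := exists_dom (lE (l 0))
  obtain ⟨l', hl⟩ := Rsl.exists_wL_lE v (l 0)
  let O : En1.One k := En1.One.mk' (Ξ 0) (nL k v * g⁻¹) l' (fun z => by rw [tor, ← nt_conj_lam v hl]; group) (e 0) (D 0) N (poly 0)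
    (D1 0) (ne 0) h2
  have H : S.En1Ov O (Ξ 0) (nL k v * g⁻¹) := ⟨fun _ => rfl, fun x => by rw [frob, Subsingleton.elim (π 0) 0],
    fun m hm => by
      obtain ⟨ρ, hρ⟩ := norm m hm
      obtain ⟨γ, hγ⟩ := hρ 0
      exact ⟨γ, fun x => by rw [hγ, Subsingleton.elim (ρ 0) 0]⟩⟩
  have hψ : ∀ x, S.ψ x = Ξ 0 (SpecialLinearGroup.map (τ 0) x) := fun x => by rw [res]; simp
  have hd : Dom (lE O.l) := by rw [← hl] at hv; exact hv
  clear_value O
  generalize nL k v * g⁻¹ = c at H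
  refine En1.One.Hyp.main (O := O) ⟨hd, ?_, H.ann (lrep_V h2) fun W hW h0 z hz => ?_,
    fun h5 => H.ann (lrep_L h2) fun W hW h0 z hz => ?_, fun X hX h0 y hy hy' => ?_, fun x hx => ?_, fun β hβ => ?_⟩
    S.prime h2 (S.nt_cases hp)
  · have h3 : S.ψ (h (-1)) ∈ Subgroup.center (Gh k) := S.ψ_mem_center.2 (Or.inr (Subtype.ext (Matrix.ext fun i j => by
      fin_cases i <;> fin_cases j <;> simp [h])))
    rw [hψ, Rsl.map_h, show Units.map (τ 0 : K →* k) (-1) = -1 from Units.ext (by simp)] at h3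
    rw [H.eq, Subgroup.mem_center_iff.1 h3, mul_inv_cancel_right, adM_apply, MonoidHom.mem_ker.1 (ker_ad (K := k) ▸ h3)]
    rfl
  · exact (Submodule.eq_bot_iff _).1 (S.ann hp hs hW h0) z hz
  · exact (Submodule.eq_bot_iff _).1 (S.nt_nk h5 hs hW h0) z fun x hx => br_eq_zero.1 (hz x hx)
  · have h3 : c⁻¹ * y * c = 1 := S.ptL hp hs (H.stb wrep_L hX) (en1_ne h0) (fun x hx =>
      (show Submodule.span k _ ≤ LinearMap.eqLocus (toLin' (adM k (c⁻¹ * y * c))) LinearMap.id from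
        Submodule.span_le.2 ?_) hx) (by rw [← inv_inv c, inv_inv c⁻¹, conj_pow, hy', mul_one, mul_inv_cancel])
    · calc y = c * (c⁻¹ * y * c) * c⁻¹ := by group
        _ = 1 := by rw [h3, mul_one, mul_inv_cancel]
    · rintro _ ⟨x, hx, rfl⟩
      show adM k _ *ᵥ _ = adM k _ *ᵥ _
      rw [← mulVec_mul, mul_inv_cancel_right, mulVec_mul, hy x hx]
  · rw [← mulVec_inv' (adM k) c x, S.nofix hp hs (adM k c⁻¹ *ᵥ x) fun y => ?_, mulVec_zero]
    conv_rhs => rw [← hx (SpecialLinearGroup.map (τ 0) y)]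
    rw [hψ, H.eq, ← mulVec_mul, ← mulVec_mul]
    congr 2
    group
  · exact S.irr hp hs (g := c⁻¹) fun x => by rw [inv_inv, hψ, ← H.eq]; exact hβ _

end Sit

end Cfsg.Agent.E7P
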