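import Cfsg.Agent.E7P.Lie.Exp
import Cfsg.Agent.E7P.Br.Pi
import Cfsg.Agent.R2.T1.Mu.Root
import Cfsg.Agent.E7P.En1.Lin

/-!
# S5932, END1: a rational `SL₂` in standard position (helper48)
-/

set_option autoImplicit false
set_option maxRecDepth 100000
set_option linter.unusedSectionVars false

namespace Cfsg.Agent.E7P.En1

open Cfsg Cfsg.Lie Matrix Module
open Cfsg.Agent.H943.E7V.Block (D1 rho)
open Cfsg.Agent.R2.T1 Cfsg.Agent.E7P.Kf Cfsg.Agent.E7P.Br
open Cfsg.Agent.R2.PX (del DD dd)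
open Cfsg.Agent.H943.SL2Rel (u w h)
open Finset (range)

universe u

variable {k : Type u} [Field k]

/-! ### polynomial identities -/

section Poly
variable [Infinite k] {M : Type*} [AddCommGroup M] [Module k M]

theorem eval_sum (φ : Dual k M) (n : ℕ) (a : ℕ → M) (t : k) :
    (∑ m ∈ range n, Polynomial.monomial m (φ (a m))).eval t = φ (∑ m ∈ range n, t ^ m • a m) := by
  rw [Polynomial.eval_finset_sum, map_sum]
  exact Finset.sum_congr rfl fun m _ => by rw [Polynomial.eval_monomial, map_smul, smul_eq_mul, mul_comm]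

theorem coeff_sum (φ : Dual k M) {n m : ℕ} (hm : m < n) (a : ℕ → M) :
    (∑ m ∈ range n, Polynomial.monomial m (φ (a m))).coeff m = φ (a m) := by
  simp only [Polynomial.finset_sum_coeff, Polynomial.coeff_monomial]
  rw [Finset.sum_ite_eq', if_pos (Finset.mem_range.2 hm)]

theorem ext_dual {x y : M} (h : ∀ φ : Dual k M, φ x = φ y) : x = y :=
  sub_eq_zero.1 ((forall_dual_apply_eq_zero_iff k _).1 fun φ => by rw [map_sub, h, sub_self])

theorem coef_eq {n : ℕ} {a b : ℕ → M} (h : ∀ t : k, ∑ m ∈ range n, t ^ m • a m = ∑ m ∈ range n, t ^ m • b m) {m : ℕ}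
    (hm : m < n) : a m = b m := by
  refine ext_dual (k := k) fun φ => ?_
  rw [← coeff_sum φ hm a, ← coeff_sum φ hm b]
  exact congrArg (Polynomial.coeff · m) (Polynomial.funext fun t => by rw [eval_sum, eval_sum, h])

theorem coef_one {n : ℕ} (hn : 2 ≤ n) {a b : ℕ → M} {c : ℤ}
    (h : ∀ x : k, 1 + x ≠ 0 → ∑ m ∈ range n, x ^ m • a m = (1 + x) ^ c • ∑ m ∈ range n, x ^ m • b m) :
    a 1 = b 1 + (c : k) • b 0 := by
  refine ext_dual (k := k) fun φ => ?_
  obtain ⟨c1, c2, rfl⟩ : ∃ c1 c2 : ℕ, c = c1 - c2 := ⟨c.toNat, (-c).toNat, by omega⟩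
  have h1 : (1 + Polynomial.X) ^ c2 * ∑ m ∈ range n, Polynomial.monomial m (φ (a m)) =
      (1 + Polynomial.X) ^ c1 * ∑ m ∈ range n, Polynomial.monomial m (φ (b m)) := by
    refine Polynomial.eq_of_infinite_eval_eq _ _ ((Set.finite_singleton (-1 : k)).infinite_compl.mono fun x hx => ?_)
    have h2 : 1 + x ≠ 0 := fun e => hx (eq_neg_of_add_eq_zero_right e)
    show Polynomial.eval x _ = Polynomial.eval x _
    rw [Polynomial.eval_mul, Polynomial.eval_mul, eval_sum, eval_sum, h x h2, map_smul, smul_eq_mul, zpow_sub₀ h2]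
    simp only [Polynomial.eval_pow, Polynomial.eval_add, Polynomial.eval_one, Polynomial.eval_X, zpow_natCast]
    field_simp
  have h2 := congrArg (Polynomial.coeff · 0) h1
  have h3 := congrArg (Polynomial.coeff · 1) h1
  simp only [Polynomial.mul_coeff_zero, Polynomial.mul_coeff_one, Polynomial.coeff_one_add_X_pow, Nat.choose_zero_right,
    Nat.choose_one_right, Nat.cast_one, one_mul, coeff_sum φ (show 0 < n by omega),
    coeff_sum φ (show 1 < n by omega)] at h2 h3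
  rw [map_add, map_smul, smul_eq_mul]
  push_cast
  linear_combination h3 - (c2 : k) * h2

end Poly

/-! ### `SL₂` -/

/-- the lower unitriangular matrices -/
def lo (s : k) : SpecialLinearGroup (Fin 2) k := w * u (-s) * w⁻¹

theorem lo_val (s : k) : (lo s).1 = !![1, 0; s, 1] := by
  let y : SpecialLinearGroup (Fin 2) k := ⟨!![1, 0; s, 1], by simp [det_fin_two]⟩
  have h1 : y * w = w * u (-s) := by
    refine Subtype.ext ?_
    show !![1, 0; s, 1] * !![0, 1; -1, 0] = !![0, 1; -1, 0] * !![1, -s; 0, 1]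
    simp
  rw [lo, ← h1, mul_inv_cancel_right]

theorem u_lo {x : k} (hx : 1 + x ≠ 0) :
    u 1 * lo x = lo (x * (1 + x)⁻¹) * h (Units.mk0 _ hx) * u (1 + x)⁻¹ := by
  refine Subtype.ext ?_
  show (u 1).1 * (lo x).1 = (lo (x * (1 + x)⁻¹)).1 * (h (Units.mk0 _ hx)).1 * (u (1 + x)⁻¹).1
  rw [lo_val, lo_val]
  ext i j
  fin_cases i <;> fin_cases j <;> simp [u, h, Matrix.mul_apply, Fin.sum_univ_two] <;> field_simp
  ring

theorem w_eq : (w : SpecialLinearGroup (Fin 2) k) = u 1 * lo (-1) * u 1 := by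
  refine Subtype.ext ?_
  show (w : SpecialLinearGroup (Fin 2) k).1 = (u 1).1 * (lo (-1)).1 * (u 1).1
  rw [lo_val]
  simp [u, w]

theorem h_eq (z : kˣ) : h z = u (z : k) * w * u (z : k)⁻¹ * w * u (z : k) * w := by
  refine Subtype.ext ?_
  show (h z).1 = (u (z : k)).1 * w.1 * (u (z : k)⁻¹).1 * w.1 * (u (z : k)).1 * w.1
  ext i j
  fin_cases i <;> fin_cases j <;> simp [u, h, w, Matrix.mul_apply, Fin.sum_univ_two]

/-- generation by the two root groups -/
theorem induct2 {P : SpecialLinearGroup (Fin 2) k → Prop} (hu : ∀ t, P (u t)) (hl : ∀ t, P (lo t))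
    (hm : ∀ a b, P a → P b → P (a * b)) (g : SpecialLinearGroup (Fin 2) k) : P g := by
  have hw : P w := w_eq (k := k) ▸ hm _ _ (hm _ _ (hu 1) (hl (-1))) (hu 1)
  refine H943.SL2Rel.induct hu (fun z => ?_) hw hm g
  rw [h_eq]
  exact hm _ _ (hm _ _ (hm _ _ (hm _ _ (hm _ _ (hu _) hw) (hu _)) hw) (hu _)) hw

theorem h_w' (a : kˣ) : h a * w⁻¹ = w⁻¹ * h a⁻¹ := by
  have h1 := H943.SL2Rel.h_w a⁻¹
  rw [inv_inv] at h1
  rw [eq_inv_mul_iff_mul_eq, ← mul_assoc, ← h1, mul_inv_cancel_right]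

/-! ### integral levels -/

section Lev
variable {I : Type}

/-- the level for a cocharacter -/
def lz (c : I → Fin 7 → ℤ) (l : Fin 7 → ℤ) (i : I) : ℤ := ∑ j, c i j * l j

variable {c : I → Fin 7 → ℤ} {l : Fin 7 → ℤ} {d a : ℤ} {x : I → k}

theorem bf_lz (c : I → Fin 7 → ℤ) (l : Fin 7 → ℤ) (i : I) : bf (lE l) (cv (c i)) = (lz c l i : ℝ) := bf_lE l (c i)

theorem Lv_iff : x ∈ Lv k c (lE l) d ↔ x ∈ Lz k (lz c l) d :=
  forall_congr' fun i => imp_congr_right fun _ => by rw [bf_lz, Int.cast_inj]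

theorem Ge_iff : x ∈ Ge k c (lE l) d ↔ ∀ i, x i ≠ 0 → d ≤ lz c l i :=
  forall_congr' fun i => imp_congr_right fun _ => by rw [bf_lz, Int.cast_le]

theorem Ge_of_Lz (hx : x ∈ Lz k (lz c l) d) : x ∈ Ge k c (lE l) d := Lv_le_Ge (Lv_iff.2 hx)

theorem Ge_neg_of_Lz (hx : x ∈ Lz k (lz c l) d) : x ∈ Ge k c (-lE l) (-d) := Lv_le_Ge (mem_Lv_neg.2 (Lv_iff.2 hx))

/-- homogeneous matrices -/
def Hm (lev : I → ℤ) (A : Matrix I I k) (a : ℤ) : Prop := ∀ i j, A i j ≠ 0 → lev i = lev j + a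

theorem Hm.MGe {A : Matrix I I k} (hA : Hm (lz c l) A a) : A ∈ MGe k c (lE l) a := fun i j hij => by
  rw [bf_lz, bf_lz, hA i j hij]
  push_cast
  exact le_rfl

variable [Fintype I] [DecidableEq I] {R : Gh k →* Matrix I I k}

theorem Hm.vec {lev : I → ℤ} {A : Matrix I I k} (hA : Hm lev A a) (hx : x ∈ Lz k lev d) : A *ᵥ x ∈ Lz k lev (d + a) :=
  fun i hi => by
    obtain ⟨j, h1, h2⟩ := exists_col hi
    rw [hA i j h1, hx j h2]

theorem Hm.of_vec {lev : I → ℤ} {A : Matrix I I k} (hA : ∀ d, ∀ x ∈ Lz k lev d, A *ᵥ x ∈ Lz k lev (d + a)) :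
    Hm lev A a := fun i j hij => hA _ _ (single_mem lev j 1) i (by rwa [mulVec_single_one])

theorem mat_ext (lev : I → ℤ) {A B : Matrix I I k} (hA : ∀ d, ∀ x ∈ Lz k lev d, A *ᵥ x = B *ᵥ x) : A = B := by
  ext i j
  have h1 := congrFun (hA _ _ (single_mem lev j 1)) i
  rwa [mulVec_single_one, mulVec_single_one] at h1

theorem lam_eq (hR : WRep c R) (l : Fin 7 → ℤ) (z : kˣ) :
    R (Phi k (lam l z)) = diagonal fun i => (z : k) ^ lz c l i := by
  rw [hR.tor]
  congr 1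
  funext i
  rw [ch_lam, Units.val_zpow_eq_zpow_val, lz]

theorem lam_vec (hR : WRep c R) (hx : x ∈ Lz k (lz c l) d) (z : kˣ) : R (Phi k (lam l z)) *ᵥ x = (z : k) ^ d • x := by
  funext i
  rw [lam_eq hR, mulVec_diagonal, Pi.smul_apply, smul_eq_mul]
  by_cases h0 : x i = 0
  · rw [h0, mul_zero, mul_zero]
  · rw [hx i h0]

theorem zpow_sep [Infinite k] {a b : ℤ} (hab : ∀ z : kˣ, (z : k) ^ a = (z : k) ^ b) : a = b := by
  by_contra hne
  obtain ⟨z, hz⟩ := exists_zpow_ne (K := k) (sub_ne_zero.2 hne)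
  refine hz (Units.ext ?_)
  rw [Units.val_zpow_eq_zpow_val, zpow_sub₀ z.ne_zero, hab, div_self (zpow_ne_zero _ z.ne_zero), Units.val_one]

theorem of_lam [Infinite k] (hR : WRep c R) (hx : ∀ z : kˣ, R (Phi k (lam l z)) *ᵥ x = (z : k) ^ d • x) :
    x ∈ Lz k (lz c l) d := fun i hi => zpow_sep (k := k) fun z => by
  have h1 := congrFun (hx z) i
  rw [lam_eq hR, mulVec_diagonal, Pi.smul_apply, smul_eq_mul] at h1
  exact mul_right_cancel₀ hi h1

/-- the centraliser of a cocharacter -/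
theorem hm_of_comm [Infinite k] (hR : WRep c R) {y : Gh k} (hy : ∀ z, y * Phi k (lam l z) = Phi k (lam l z) * y) :
    Hm (lz c l) (R y) 0 := Hm.of_vec fun d x hx => of_lam hR fun z => by
  rw [← mulVec_mul, ← hy, mulVec_mul, lam_vec hR hx, mulVec_smul, add_zero]

theorem comm_of_hm {y : Gh k} (hy : Hm (lz wc l) (rho k y) 0) (z : kˣ) : y * Phi k (lam l z) = Phi k (lam l z) * y := by
  refine rho_injective (mat_ext (lz wc l) fun d x hx => ?_)
  have h1 := hy.vec hx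
  rw [add_zero] at h1
  rw [mulVec_mul, mulVec_mul, lam_vec wrep_V hx, lam_vec wrep_V h1, mulVec_smul]

theorem Pl_of_hm [Infinite k] {y : Gh k} (hy : Hm (lz wc l) (rho k y) 0) : y ∈ Pl k (lE l) ∧ y ∈ Pl k (-lE l) := by
  refine ⟨mem_Pl_of_tri fun i j hij => ?_, mem_Pl_of_tri fun i j hij => ?_⟩
  · rw [wv, wv, bf_lz, bf_lz, hy i j hij, add_zero]
  · rw [map_neg, LinearMap.neg_apply, LinearMap.neg_apply, wv, wv, bf_lz, bf_lz, hy i j hij, add_zero]

end Lev

theorem del_hm {l : Fin 7 → ℤ} {d : ℤ} {z : chevE7.Idx → k} : Hm (lz wc l) (del k z) d ↔ z ∈ Lz k (lz ac l) d := by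
  have key : ∀ {i j : D1} {a : chevE7.Idx}, wv i = wv j + cv (ac a) → lz wc l i = lz wc l j + lz ac l a := by
    intro i j a e
    have h1 := congrArg (bf (lE l)) e
    rw [map_add, wv, wv, bf_lz, bf_lz, bf_lz] at h1
    exact_mod_cast h1
  refine ⟨fun hz a ha => ?_, fun hz i j hij => ?_⟩
  · obtain ⟨i, j, h1, e⟩ := del_supp ha
    have := key e
    have := hz i j h1
    omega
  · obtain ⟨a, ha, e⟩ := del_wt hij
    rw [key e, hz a ha]

/-! ### the group -/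

variable (k) in
/-- a rational homomorphism from `SL₂` in standard position -/
structure One where
  Ξ : SpecialLinearGroup (Fin 2) k →* Gh k
  l : Fin 7 → ℤ
  tor : ∀ z, Ξ (h z) = Phi k (lam l z)
  e : chevE7.Idx → k
  D : ℕ → Matrix D1 D1 k
  N : ℕ
  poly : ∀ t, rho k (Ξ (u t)) = ∑ m ∈ range (N + 2), t ^ m • D m
  D1 : D 1 = del k e
  ne : e ≠ 0

namespace One

variable (O : One k)

/-- the divided powers -/
def Dm (m : ℕ) : Matrix H943.E7V.Block.D1 H943.E7V.Block.D1 k := if m < O.N + 2 then O.D m else 0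

theorem Dm_zero_of {m : ℕ} (hm : O.N + 2 ≤ m) : O.Dm m = 0 := if_neg (not_lt.2 hm)

theorem poly' {n : ℕ} (hn : O.N + 2 ≤ n) (t : k) : rho k (O.Ξ (u t)) = ∑ m ∈ range n, t ^ m • O.Dm m := by
  rw [O.poly, ← Finset.sum_subset (Finset.range_mono hn) fun m _ hm => by
    rw [O.Dm_zero_of (not_lt.1 fun e => hm (Finset.mem_range.2 e)), smul_zero]]
  exact Finset.sum_congr rfl fun m hm => by rw [Dm, if_pos (Finset.mem_range.1 hm)]

theorem vec_poly {n : ℕ} (hn : O.N + 2 ≤ n) (t : k) (x : H943.E7V.Block.D1 → k) :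
    rho k (O.Ξ (u t)) *ᵥ x = ∑ m ∈ range n, t ^ m • (O.Dm m *ᵥ x) := by
  rw [O.poly' hn, sum_mulVec]
  simp only [smul_mulVec]

theorem Dm_one : O.Dm 1 = del k O.e := (if_pos (by omega)).trans O.D1

theorem Dm_zero : O.Dm 0 = 1 := by
  have h1 := O.poly' le_rfl 0
  rw [H943.SL2Rel.u_zero, map_one, map_one, Finset.sum_range_succ', pow_zero, one_smul,
    Finset.sum_eq_zero fun m _ => by rw [pow_succ, mul_zero, zero_smul], zero_add] at h1
  exact h1.symm

/-- the lowering operator -/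
noncomputable def f : chevE7.Idx → k := - (adM k (O.Ξ w) *ᵥ O.e)

/-- the semisimple element -/
noncomputable def hh : chevE7.Idx → k := br k O.e O.f

/-- the divided powers of the lowering operator -/
noncomputable def Fm (m : ℕ) : Matrix H943.E7V.Block.D1 H943.E7V.Block.D1 k :=
  (-1 : k) ^ m • (rho k (O.Ξ w) * O.Dm m * rho k (O.Ξ w⁻¹))

theorem vec_lo {n : ℕ} (hn : O.N + 2 ≤ n) (t : k) (x : H943.E7V.Block.D1 → k) :
    rho k (O.Ξ (lo t)) *ᵥ x = ∑ m ∈ range n, t ^ m • (O.Fm m *ᵥ x) := by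
  rw [lo, map_mul O.Ξ, map_mul O.Ξ, mulVec_mul, mulVec_mul, O.vec_poly hn, mulVec_sum]
  refine Finset.sum_congr rfl fun m _ => ?_
  rw [Fm, smul_mulVec, smul_smul, ← mul_pow, mul_neg_one, mulVec_smul, mulVec_mulVec, mulVec_mulVec]

theorem Fm_zero : O.Fm 0 = 1 := by
  rw [Fm, pow_zero, one_smul, Dm_zero, mul_one, ← map_mul, ← map_mul, mul_inv_cancel, map_one, map_one]

theorem Fm_one (h2 : (2 : k) ≠ 0) : O.Fm 1 = del k O.f := by
  rw [Fm, pow_one, neg_one_smul, Dm_one, f, map_neg, del_adM h2, map_inv]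

variable [Infinite k]

section
variable {I : Type} [Fintype I] [DecidableEq I] {c : I → Fin 7 → ℤ} {R : Gh k →* Matrix I I k} {d : ℤ} {x : I → k}

theorem h_vec (hR : WRep c R) (hx : x ∈ Lz k (lz c O.l) d) (z : kˣ) : R (O.Ξ (h z)) *ᵥ x = (z : k) ^ d • x := by
  rw [O.tor, lam_vec hR hx]

theorem of_h (hR : WRep c R) (hx : ∀ z : kˣ, R (O.Ξ (h z)) *ᵥ x = (z : k) ^ d • x) : x ∈ Lz k (lz c O.l) d :=
  of_lam hR fun z => by rw [← O.tor, hx]

theorem w_flip (hR : WRep c R) (hx : x ∈ Lz k (lz c O.l) d) : R (O.Ξ w) *ᵥ x ∈ Lz k (lz c O.l) (-d) :=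
  O.of_h hR fun z => by
    rw [← mulVec_mul, ← map_mul, H943.SL2Rel.h_w, map_mul, mulVec_mul, O.h_vec hR hx, mulVec_smul,
      Units.val_inv_eq_inv_val, _root_.inv_zpow']

theorem w_flip' (hR : WRep c R) (hx : x ∈ Lz k (lz c O.l) d) : R (O.Ξ w⁻¹) *ᵥ x ∈ Lz k (lz c O.l) (-d) :=
  O.of_h hR fun z => by
    rw [← mulVec_mul, ← map_mul, h_w', map_mul, mulVec_mul, O.h_vec hR hx, mulVec_smul,
      Units.val_inv_eq_inv_val, _root_.inv_zpow']

end

variable {d : ℤ} {x : H943.E7V.Block.D1 → k}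

theorem Dm_vec (m : ℕ) (hx : x ∈ Lz k (lz wc O.l) d) : O.Dm m *ᵥ x ∈ Lz k (lz wc O.l) (d + 2 * m) := by
  refine O.of_h wrep_V fun z => ?_
  refine coef_eq (k := k) (n := O.N + 2 + m + 1) (a := fun m => rho k (O.Ξ (h z)) *ᵥ (O.Dm m *ᵥ x))
    (b := fun m => (z : k) ^ (d + 2 * m) • (O.Dm m *ᵥ x)) (fun t => ?_) (by omega)
  have h1 := congrArg (fun g => rho k (O.Ξ g) *ᵥ x) (H943.SL2Rel.h_u z t)
  simp only [map_mul, ← mulVec_mulVec] at h1
  rw [O.h_vec wrep_V hx, O.vec_poly (n := O.N + 2 + m + 1) (by omega), O.vec_poly (n := O.N + 2 + m + 1) (by omega),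
    mulVec_sum] at h1
  simp only [mulVec_smul] at h1
  rw [h1]
  refine Finset.sum_congr rfl fun m _ => ?_
  rw [smul_smul, smul_smul, zpow_add₀ z.ne_zero, _root_.zpow_mul, zpow_natCast, mul_pow, zpow_ofNat]
  congr 1
  ring

theorem Dm_hm (m : ℕ) : Hm (lz wc O.l) (O.Dm m) (2 * m) := Hm.of_vec fun _ _ hx => O.Dm_vec m hx

theorem Fm_vec (m : ℕ) (hx : x ∈ Lz k (lz wc O.l) d) : O.Fm m *ᵥ x ∈ Lz k (lz wc O.l) (d + -(2 * m)) := by
  rw [Fm, smul_mulVec, ← mulVec_mulVec, ← mulVec_mulVec]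
  exact Submodule.smul_mem _ _ (mem_cast (O.w_flip wrep_V (O.Dm_vec m (O.w_flip' wrep_V hx))) (by ring))

theorem e_mem : O.e ∈ Lz k (lz ac O.l) 2 := del_hm.1 (O.Dm_one ▸ O.Dm_hm 1)

theorem f_mem : O.f ∈ Lz k (lz ac O.l) (-2) := neg_mem (O.w_flip wrep_L O.e_mem)

theorem pr_u (hx : x ∈ Lz k (lz wc O.l) d) (n : ℕ) (t : k) :
    pr (lz wc O.l) (d + 2 * n) (rho k (O.Ξ (u t)) *ᵥ x) = t ^ n • (O.Dm n *ᵥ x) := by
  rw [O.vec_poly (n := O.N + 2 + n + 1) (by omega), map_sum, Finset.sum_eq_single n]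
  · rw [map_smul, pr_of_mem (O.Dm_vec n hx)]
  · intro m _ hm
    rw [map_smul, pr_of_ne (O.Dm_vec m hx) (by omega), smul_zero]
  · intro h1
    exact absurd (Finset.mem_range.2 (by omega)) h1

theorem Dm_succ (m : ℕ) : del k O.e * O.Dm m = ((m : k) + 1) • O.Dm (m + 1) := by
  refine mat_ext (lz wc O.l) fun d x hx => ?_
  have h1 := coef_one (k := k) (n := O.N + 2) (by omega)
    (a := fun i => O.Dm i *ᵥ pr (lz wc O.l) (d + 2 * (m + 1 : ℕ) - 2 * i) (rho k (O.Ξ (u 1)) *ᵥ x))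
    (b := fun i => if i = 0 then O.Dm (m + 1) *ᵥ x else 0) (c := (m + 1 : ℕ)) fun s _ => by
      rw [Finset.sum_range_succ' (fun i => s ^ i • if i = 0 then O.Dm (m + 1) *ᵥ x else 0)]
      simp only [Nat.add_eq_zero_iff, one_ne_zero, and_false, if_false, smul_zero, Finset.sum_const_zero, zero_add, pow_zero,
        if_true, one_smul, zpow_natCast]
      rw [← O.pr_u hx, add_comm 1 s, H943.SL2Rel.u_add, map_mul, mulVec_mul, O.vec_poly le_rfl s, map_sum]
      refine Finset.sum_congr rfl fun i _ => ?_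
      rw [map_smul]
      congr 1
      have h2 := pr_map (f := toLin' (O.Dm i)) (fun d x hx => O.Dm_vec i hx) (d + 2 * (m + 1 : ℕ) - 2 * i)
        (rho k (O.Ξ (u 1)) *ᵥ x)
      rw [sub_add_cancel] at h2
      exact h2.symm
  have e1 : d + 2 * (m + 1 : ℕ) - 2 * (1 : ℕ) = d + 2 * m := by push_cast; ring
  rw [e1, O.pr_u hx, if_neg one_ne_zero, if_pos rfl, zero_add, one_pow, one_smul, O.Dm_one] at h1
  rw [← mulVec_mulVec, smul_mulVec]
  exact_mod_cast h1

theorem pow_eq (m : ℕ) : del k O.e ^ m = (m.factorial : k) • O.Dm m := by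
  induction m with
  | zero => simp [O.Dm_zero]
  | succ m ih =>
    rw [pow_succ', ih, mul_smul_comm, O.Dm_succ, smul_smul, Nat.factorial_succ]
    push_cast
    rw [mul_comm]

/-- **the basic relation** -/
theorem rel (h2 : (2 : k) ≠ 0) (j : ℕ) (hx : x ∈ Lz k (lz wc O.l) d) :
    O.Dm (j + 1) *ᵥ (del k O.f *ᵥ x) = del k O.f *ᵥ (O.Dm (j + 1) *ᵥ x) + ((d : k) + j) • (O.Dm j *ᵥ x) := by
  have h1 := coef_one (k := k) (n := O.N + 2) (by omega) (a := fun m => O.Dm (j + m) *ᵥ (O.Fm m *ᵥ x))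
    (b := fun m => O.Fm m *ᵥ (O.Dm (j + m) *ᵥ x)) (c := d + j) fun s hs => by
      have h3 := congrArg (fun g => pr (lz wc O.l) (d + 2 * j) (rho k (O.Ξ g) *ᵥ x)) (u_lo hs)
      simp only [map_mul, ← mulVec_mulVec] at h3
      rw [O.vec_lo le_rfl, O.vec_lo le_rfl, mulVec_sum, map_sum, map_sum] at h3
      rw [Finset.smul_sum]
      refine Eq.trans (Finset.sum_congr rfl fun m _ => ?_) (h3.trans (Finset.sum_congr rfl fun m _ => ?_))
      · have h4 := O.pr_u (O.Fm_vec m hx) (j + m) 1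
        rw [show d + -(2 * m) + 2 * (j + m : ℕ) = d + 2 * j by push_cast; ring, one_pow, one_smul] at h4
        rw [mulVec_smul, map_smul, h4]
      · have h4 := pr_map (f := toLin' (O.Fm m)) (fun d x hx => O.Fm_vec m hx) (d + 2 * (j + m : ℕ))
          (rho k (O.Ξ (h (Units.mk0 _ hs))) *ᵥ (rho k (O.Ξ (u (1 + s)⁻¹)) *ᵥ x))
        have h5 := pr_map (f := toLin' (rho k (O.Ξ (h (Units.mk0 _ hs))))) (a := 0) (lev := lz wc O.l) (lev' := lz wc O.l)
          (fun d x hx => by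
            rw [toLin'_apply, O.h_vec wrep_V hx, add_zero]
            exact Submodule.smul_mem _ _ hx) (d + 2 * (j + m : ℕ)) (rho k (O.Ξ (u (1 + s)⁻¹)) *ᵥ x)
        rw [show d + 2 * (j + m : ℕ) + -(2 * m) = d + 2 * j by push_cast; ring, toLin'_apply, toLin'_apply] at h4
        rw [add_zero, toLin'_apply, toLin'_apply, O.pr_u hx, mulVec_smul, O.h_vec wrep_V (O.Dm_vec _ hx)] at h5
        rw [map_smul, h4, h5, mulVec_smul, mulVec_smul, smul_smul, smul_smul, smul_smul]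
        congr 1
        rw [Units.val_mk0, zpow_add₀ hs, zpow_add₀ hs, _root_.zpow_mul, zpow_natCast, zpow_natCast, zpow_ofNat]
        generalize 1 + s = a at hs
        simp only [mul_pow, pow_add, inv_pow, pow_two]
        field_simp
  rw [add_zero, O.Fm_zero, O.Fm_one h2, one_mulVec] at h1
  exact_mod_cast h1

theorem hh_vec (h2 : (2 : k) ≠ 0) (hx : x ∈ Lz k (lz wc O.l) d) : del k O.hh *ᵥ x = (d : k) • x := by
  have h1 := O.rel h2 0 hx
  rw [zero_add, O.Dm_one, O.Dm_zero, one_mulVec, Nat.cast_zero, add_zero] at h1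
  rw [hh, del_br, sub_mulVec, ← mulVec_mulVec, ← mulVec_mulVec, h1, add_sub_cancel_left]

theorem br_hh (h2 : (2 : k) ≠ 0) {z : chevE7.Idx → k} (hz : z ∈ Lz k (lz ac O.l) d) : br k O.hh z = (d : k) • z := by
  refine Mu.del_injective (mat_ext (lz wc O.l) fun a x hx => ?_)
  rw [del_br, sub_mulVec, ← mulVec_mulVec, ← mulVec_mulVec, O.hh_vec h2 hx, O.hh_vec h2 ((del_hm.2 hz).vec hx),
    mulVec_smul, map_smul, smul_mulVec, ← sub_smul]
  push_cast
  rw [add_sub_cancel_left]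

theorem ad_of (h2 : (2 : k) ≠ 0) {g : Gh k} {y z : chevE7.Idx → k} (hg : rho k g * del k y = del k z * rho k g) :
    adM k g *ᵥ y = z := Mu.del_injective (by
  rw [del_adM h2, hg, mul_assoc, ← map_mul, mul_inv_cancel, map_one, mul_one])

theorem u_e (h2 : (2 : k) ≠ 0) (t : k) : adM k (O.Ξ (u t)) *ᵥ O.e = O.e := by
  refine ad_of h2 ?_
  rw [← O.Dm_one]
  refine coef_eq (k := k) (n := O.N + 2) (a := fun m => rho k (O.Ξ (u t)) * O.Dm m)
    (b := fun m => O.Dm m * rho k (O.Ξ (u t))) (fun s => ?_) (by omega)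
  have h1 := O.poly' le_rfl s
  have h3 := congrArg (rho k (O.Ξ (u t)) * ·) h1
  have h4 := congrArg (· * rho k (O.Ξ (u t))) h1
  simp only [Finset.mul_sum, Finset.sum_mul, mul_smul_comm, smul_mul_assoc] at h3 h4
  rw [← h3, ← h4, ← map_mul, ← map_mul, ← map_mul, ← map_mul, ← H943.SL2Rel.u_add, ← H943.SL2Rel.u_add, add_comm]

theorem u_f (h2 : (2 : k) ≠ 0) (t : k) : adM k (O.Ξ (u t)) *ᵥ O.f = O.f + t • O.hh - t ^ 2 • O.e := by
  refine ad_of h2 (mat_ext (lz wc O.l) fun d x hx => ?_)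
  have a1 : rho k (O.Ξ (u t)) *ᵥ (del k O.f *ᵥ x) = del k O.f *ᵥ (rho k (O.Ξ (u t)) *ᵥ x) +
      ∑ m ∈ range (O.N + 2), (t ^ (m + 1) * ((d : k) + m)) • (O.Dm m *ᵥ x) := by
    rw [O.vec_poly (Nat.le_succ _), O.vec_poly (Nat.le_succ _), mulVec_sum, Finset.sum_range_succ',
      Finset.sum_range_succ' _ (O.N + 2), O.Dm_zero, one_mulVec, one_mulVec, mulVec_smul, add_right_comm,
      ← Finset.sum_add_distrib]
    congr 1
    exact Finset.sum_congr rfl fun m _ => by rw [O.rel h2 m hx, smul_add, mulVec_smul, smul_smul]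
  have a2 : t • (del k O.hh *ᵥ (rho k (O.Ξ (u t)) *ᵥ x)) =
      ∑ m ∈ range (O.N + 2), (t ^ (m + 1) * ((d : k) + 2 * m)) • (O.Dm m *ᵥ x) := by
    rw [O.vec_poly le_rfl, mulVec_sum, Finset.smul_sum]
    refine Finset.sum_congr rfl fun m _ => ?_
    rw [mulVec_smul, O.hh_vec h2 (O.Dm_vec m hx), smul_smul, smul_smul]
    congr 1
    push_cast
    ring
  have a3 : t ^ 2 • (del k O.e *ᵥ (rho k (O.Ξ (u t)) *ᵥ x)) =
      ∑ m ∈ range (O.N + 2), (t ^ (m + 1) * m) • (O.Dm m *ᵥ x) := by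
    have h1 := Finset.sum_range_succ (fun m => (t ^ (m + 1) * m) • (O.Dm m *ᵥ x)) (O.N + 2)
    rw [O.Dm_zero_of le_rfl, zero_mulVec, smul_zero, add_zero, Finset.sum_range_succ', Nat.cast_zero, mul_zero, zero_smul,
      add_zero] at h1
    rw [← h1, O.vec_poly le_rfl, mulVec_sum, Finset.smul_sum]
    refine Finset.sum_congr rfl fun m _ => ?_
    rw [mulVec_smul, mulVec_mulVec, O.Dm_succ, smul_mulVec, smul_smul, smul_smul]
    congr 1
    push_cast
    ring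
  rw [map_sub, map_add, map_smul, map_smul, ← mulVec_mulVec, ← mulVec_mulVec, sub_mulVec, add_mulVec, smul_mulVec,
    smul_mulVec, a1, a2, a3, add_sub_assoc, ← Finset.sum_sub_distrib]
  congr 1
  refine Finset.sum_congr rfl fun m _ => ?_
  rw [← sub_smul]
  congr 1
  ring

theorem w_e : adM k (O.Ξ w) *ᵥ O.e = -O.f := by rw [f, neg_neg]

theorem w_f : adM k (O.Ξ w) *ᵥ O.f = -O.e := by
  rw [f, mulVec_neg, ← mulVec_mul, ← map_mul, H943.SL2Rel.w_w, O.h_vec wrep_L O.e_mem]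
  simp

theorem u_mem (t : k) : O.Ξ (u t) ∈ Ul k (lE O.l) := by
  refine mem_Ul_of_stri fun i j hij => ?_
  have h1 : rho k (O.Ξ (u t)) - 1 ∈ MGt k wc (lE O.l) 0 := by
    rw [O.poly' le_rfl, Finset.sum_range_succ', pow_zero, one_smul, O.Dm_zero, add_sub_cancel_right]
    refine Submodule.sum_mem _ fun m _ => Submodule.smul_mem _ _ (MGe_le_MGt ?_ (O.Dm_hm (m + 1)).MGe)
    push_cast
    positivity
  have h2 := h1 i j hij
  rwa [add_zero] at h2

theorem lo_mem (t : k) : O.Ξ (lo t) ∈ Ul k (-lE O.l) := by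
  refine mem_Ul_of_stri fun i j hij => ?_
  have h1 := O.vec_lo le_rfl t (Pi.single j 1)
  rw [Finset.sum_range_succ', pow_zero, one_smul, O.Fm_zero, ← sub_eq_iff_eq_add, ← sub_mulVec, mulVec_single_one] at h1
  have h2 := congrFun h1 i
  rw [col_apply, Finset.sum_apply] at h2
  obtain ⟨m, -, hm⟩ := Finset.exists_ne_zero_of_sum_ne_zero (h2 ▸ hij)
  have h3 := O.Fm_vec (m + 1) (single_mem (lz wc O.l) j 1) i (right_ne_zero_of_mul hm)
  rw [map_neg, LinearMap.neg_apply, LinearMap.neg_apply, wv, wv, bf_lz, bf_lz, neg_lt_neg_iff, Int.cast_lt]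
  omega

end One

end Cfsg.Agent.E7P.En1
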